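import Mathlib.LinearAlgebra.Matrix.ToLinearEquiv
import Mathlib.LinearAlgebra.Matrix.NonsingularInverse
import Mathlib.LinearAlgebra.Matrix.Adjugate

/-!
# Negative definite matrices with nonnegative off-diagonal entries
-/

set_option autoImplicit false
set_option linter.all false

namespace GrothLib.Artin29

open Matrix

/-- A negative right hand side has a positive solution, up to scaling. -/
theorem exists_pos_solution {r : ℕ} (A : Matrix (Fin r) (Fin r) ℤ) (hoff : ∀ i j, i ≠ j → 0 ≤ A i j)
    (hneg : ∀ a : Fin r → ℤ, a ≠ 0 → a ⬝ᵥ A.mulVec a < 0) (d : Fin r → ℤ) (hd : ∀ i, 0 < d i) :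
    ∃ (t : ℕ) (a : Fin r → ℕ), 0 < t ∧ (∀ i, 1 ≤ a i) ∧ ∀ i, A.mulVec (fun j => (a j : ℤ)) i = -((t : ℤ) * d i) := by
  classical
  have hdet : A.det ≠ 0 := by
    intro h
    obtain ⟨v, hv, hv0⟩ := Matrix.exists_mulVec_eq_zero_iff.mpr h
    have := hneg v hv
    rw [hv0] at this
    simp at this
  set z : Fin r → ℤ := A.adjugate.mulVec (fun i => -(A.det * d i)) with hz
  have hAz : ∀ i, A.mulVec z i = -(A.det * A.det * d i) := by
    intro i
    rw [hz, Matrix.mulVec_mulVec, Matrix.mul_adjugate, Matrix.smul_mulVec, Matrix.one_mulVec]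
    simp [mul_assoc]
  have hdd : 0 < A.det * A.det := mul_self_pos.mpr hdet
  have hneg' : ∀ i, A.mulVec z i < 0 := fun i => by
    rw [hAz]
    have := mul_pos hdd (hd i)
    omega
  have hnn : ∀ i, 0 ≤ z i := by
    by_contra hc
    simp only [not_forall, not_le] at hc
    obtain ⟨i₀, hi₀⟩ := hc
    set p : Fin r → ℤ := fun i => max (-z i) 0 with hp
    have hp0 : p ≠ 0 := fun h => by
      have := congrFun h i₀; simp only [hp, Pi.zero_apply] at this
      have := le_max_left (-z i₀) 0; omega
    have hpp := hneg p hp0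
    have hq : ∀ i, p i * A.mulVec (z + p) i ≥ 0 := by
      intro i
      rcases le_or_gt 0 (z i) with h | h
      · have : p i = 0 := by simp [hp, h]
        simp [this]
      · refine mul_nonneg (le_max_right _ _) (?_ : 0 ≤ ∑ j, A i j * (z + p) j)
        refine Finset.sum_nonneg fun j _ => ?_
        have hzp : 0 ≤ (z + p) j := by
          simp only [hp, Pi.add_apply]; have := le_max_left (-z j) 0; omega
        rcases eq_or_ne i j with rfl | hij
        · have : (z + p) i = 0 := by
            simp only [hp, Pi.add_apply]; rw [max_eq_left (by omega)]; ring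
          rw [this, mul_zero]
        · exact mul_nonneg (hoff i j hij) hzp
    have hsum : 0 ≤ p ⬝ᵥ A.mulVec (z + p) := Finset.sum_nonneg fun i _ => hq i
    have hle : p ⬝ᵥ A.mulVec z ≤ 0 := Finset.sum_nonpos fun i _ =>
      mul_nonpos_of_nonneg_of_nonpos (le_max_right _ _) (hneg' i).le
    rw [Matrix.mulVec_add, dotProduct_add] at hsum
    omega
  have hpos : ∀ i, 1 ≤ z i := by
    intro i
    by_contra hc
    have hz0 : z i = 0 := by have := hnn i; omega
    have h1 : 0 ≤ A.mulVec z i := by
      show 0 ≤ ∑ j, A i j * z j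
      refine Finset.sum_nonneg fun j _ => ?_
      rcases eq_or_ne i j with rfl | hij
      · simp [hz0]
      · exact mul_nonneg (hoff i j hij) (hnn j)
    exact absurd h1 (not_le.2 (hneg' i))
  refine ⟨(A.det * A.det).toNat, fun i => (z i).toNat, by omega, fun i => by have := hpos i; show 1 ≤ (z i).toNat; omega, fun i => ?_⟩
  rw [show (fun j => ((z j).toNat : ℤ)) = z from funext fun j => Int.toNat_of_nonneg (hnn j),
    Int.toNat_of_nonneg hdd.le, hAz]

end GrothLib.Artin29
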