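import Groth.Agent.Lib.Artin29.Main
import Groth.Agent.Lib.Contract29.ArSurf
import Groth.Agent.Lib.Contract29.MinimalUnique
import Groth.Agent.Lib.Cube.AmpleCrit

/-!
# Artin's contractibility criterion
-/

set_option autoImplicit false
set_option linter.all false
set_option backward.isDefEq.respectTransparency false

universe u

open CategoryTheory CategoryTheory.Limits AlgebraicGeometry TopologicalSpace Opposite
open GrothLib.Cube (clsMod)

noncomputable section

namespace GrothLib.Artin29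

variable {R : Type u} [CommRing R] [IsDomain R] [IsDiscreteValuationRing R]
  {X : Over (Spec (CommRingCat.of R))}

theorem exists_ample (hX : ArSurf.IsArithSurface R X) :
    ∃ H : X.left.Modules, CohB1.IsAmple H := by
  obtain ⟨-, -, -, -, n, i, hi, hw⟩ := hX
  haveI := hi
  exact ⟨_, Ample.isAmple_pullback_of_isAffineHom i (HilbDesc10.isAmple_twistOver n (Spec (CommRingCat.of R)))⟩

theorem pull_eq_one_of_hasSec_le {Y Z : Scheme.{u}} (j : Z ⟶ Y) {x : Cube.Pic Y} {O : Y.Opens} (h : Cube.HasSec x O)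
    (hj : ∀ z, j z ∈ O) : Cube.pull j x = 1 :=
  Cube.eq_one_of_hasSec_top ((top_le_iff.1 fun z _ => hj z : j ⁻¹ᵁ O = ⊤) ▸ Cube.hasSec_pull j h)

variable (hX : ArSurf.IsArithSurface R X) {r : ℕ} {Γ : Fin r → ArSurf.VertComp R X}
  (hΓ : Function.Injective fun i => Set.range ((Γ i).ι.base : (Γ i).curve.left → X.left))
  (L : Fin r → X.left.Modules) (hL : ∀ j, ClSub.IsInverseOf (L j) (ClSub.idealMod (Γ j).ι.ker))
  (hneg : ∀ a : Fin r → ℤ, a ≠ 0 →
    (Finset.univ : Finset (Fin r × Fin r)).sum (fun p => a p.1 * a p.2 * ArSurf.inter R X (L p.2) (Γ p.1)) < 0)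
  (hpic : PicZero X Γ)

include hX hΓ hL hneg hpic

/-- Degree zero modules are trivial near a negative definite configuration with trivial Picard groups. -/
theorem trivial_near {M : X.left.Modules} (hM : PicF.IsInvertible M) (hM0 : ∀ i, ArSurf.inter R X M (Γ i) = 0) :
    ∃ W : X.left.Opens, (∀ i, Set.range ((Γ i).ι.base : (Γ i).curve.left → X.left) ⊆ (W : Set X.left)) ∧
      Nonempty (M.restrict W.ι ≅ Coh.structureModule (W : Scheme.{u})) := by
  haveI := ArSurf29.isProper_of_isArithSurface hX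
  haveI := ArSurf29.isLocallyNoetherian_of_isArithSurface hX
  haveI : Flat X.hom := hX.2.2.2.1
  obtain ⟨H, hH⟩ := exists_ample hX
  obtain ⟨t, I, hI, ht, hsupp, hdeg, -⟩ := exists_divisor hX hΓ L hL hneg hH
  obtain ⟨N₁, h₁⟩ := exists_hasSec_nhd hpic hH ht hI hsupp hdeg hM hM0
  obtain ⟨N₂, h₂⟩ := exists_hasSec_nhd hpic hH ht hI hsupp hdeg (Euler.isInvertible_structure (X := X.left)) fun i => by
    rw [ArSurf29.inter_eq_icl (Γ i) Euler.isInvertible_structure, (Cube.clsMod_eq_one_iff _).2 ⟨Iso.refl _⟩,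
      ArSurf29.icl_one]
  obtain ⟨O₁, hO₁, hs₁⟩ := h₁ (N₁ + N₂) (by omega)
  obtain ⟨O₂, hO₂, hs₂⟩ := h₂ (N₁ + N₂) (by omega)
  let W := O₁ ⊓ O₂
  refine ⟨W, fun i p hp => ⟨hO₁ (Set.mem_iUnion.2 ⟨i, hp⟩), hO₂ (Set.mem_iUnion.2 ⟨i, hp⟩)⟩, ?_⟩
  have e₁ := pull_eq_one_of_hasSec_le W.ι hs₁ fun z => z.2.1
  have e₂ := pull_eq_one_of_hasSec_le W.ι hs₂ fun z => z.2.2
  rw [map_mul] at e₁ e₂
  rw [(Cube.clsMod_eq_one_iff Euler.isInvertible_structure).2 ⟨Iso.refl _⟩, map_one, one_mul] at e₂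
  rw [e₂, mul_one, ← Cube.clsMod_pullback W.ι hM] at e₁
  obtain ⟨e⟩ := (Cube.clsMod_eq_one_iff _).1 e₁
  exact ⟨(Scheme.Modules.restrictFunctorIsoPullback W.ι).app M ≪≫ e⟩

/-- The globally generated module contracting exactly the configuration. -/
theorem exists_contracting_module :
    ∃ (N : X.left.Modules) (_ : PicF.IsInvertible N), Curv2.IsGloballyGenerated N ∧
      0 < ArSurf.curveDeg (FractionRing R) ((Neron.genericFibre R).obj X).left
        ((Scheme.Modules.pullback (pullback.fst X.hom (Neron.genPt R))).obj N) ∧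
      ∀ E : ArSurf.VertComp R X,
        Nonempty ((Scheme.Modules.pullback E.ι).obj N ≅ Coh.structureModule E.curve.left) ↔
          ∃ i, Set.range (E.ι.base : E.curve.left → X.left) = Set.range (Γ i).ι.base := by
  haveI := ArSurf29.isProper_of_isArithSurface hX
  haveI := ArSurf29.isLocallyNoetherian_of_isArithSurface hX
  haveI : Flat X.hom := hX.2.2.2.1
  haveI := hX.2.1
  obtain ⟨H, hH⟩ := exists_ample hX
  obtain ⟨t, I, hI, ht, hsupp, hdeg, hnn⟩ := exists_divisor hX hΓ L hL hneg hH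
  set h := clsMod hH.1
  set y := (clsMod (IdealModSec.isInvertible_of_isEffCartier hI))⁻¹
  obtain ⟨N₀, h₀⟩ := exists_hasSec_nhd hpic hH ht hI hsupp hdeg (Euler.isInvertible_structure (X := X.left)) fun i => by
    rw [ArSurf29.inter_eq_icl (Γ i) Euler.isInvertible_structure, (Cube.clsMod_eq_one_iff _).2 ⟨Iso.refl _⟩,
      ArSurf29.icl_one]
  obtain ⟨K, hK, hcover⟩ := Contract29.exists_ample_cover hH
  let q := N₀ + 1
  let m := K * q
  have hm : N₀ ≤ m := (Nat.le_succ N₀).trans (Nat.le_mul_of_pos_left _ hK)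
  obtain ⟨N, hN, hNc⟩ := Contract29.exists_mod ((h ^ t * y) ^ m)
  obtain ⟨O, hO, hs⟩ := h₀ m hm
  rw [(Cube.clsMod_eq_one_iff Euler.isInvertible_structure).2 ⟨Iso.refl _⟩, one_mul, ← hNc] at hs
  have hgg : Curv2.IsGloballyGenerated N := by
    obtain ⟨c, ⟨e⟩⟩ := Ample.exists_cocycle hN
    refine Ample.isGloballyGenerated_of_iso e.symm (c.isGloballyGenerated_of_generated fun p => ?_)
    rw [Cube.clsMod_eq hN e] at hs
    by_cases hp : p ∈ ⋃ i, Set.range (Γ i).ι.base
    · obtain ⟨a, ha⟩ := Cube.exists_sect_of_hasSec hs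
      exact ⟨a, ha.ge (hO hp)⟩
    · obtain ⟨M₁, hM₁, hM₁c⟩ := Contract29.exists_mod (h ^ (K * (q * t)))
      obtain ⟨r', σ, W, -, hWcov, hσ⟩ := hcover (q * t) (Nat.mul_pos (Nat.succ_pos _) ht) M₁ hM₁ hM₁c
      obtain ⟨l, hl⟩ := Opens.mem_iSup.1 (hWcov.ge (Opens.mem_top p))
      obtain ⟨c₁, ⟨e₁⟩⟩ := Ample.exists_cocycle hM₁
      have h₁ : Cube.HasSec (h ^ (K * (q * t))) (c₁.locus (show c₁.sect 1 ⊤ from e₁.hom.app ⊤ (σ l))) :=
        ⟨c₁, _, by rw [← hM₁c, Cube.clsMod_eq hM₁ e₁], rfl⟩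
      obtain ⟨m', hm'⟩ : ∃ m', m = m' + 1 := Nat.exists_eq_succ_of_ne_zero (Nat.mul_pos hK (Nat.succ_pos N₀)).ne'
      have h₂ := Cube.hasSec_pow (Cube.hasSec_compl_support hI) m'
      rw [← hm'] at h₂
      have h₃ := Cube.hasSec_mul h₁ h₂
      rw [show h ^ (K * (q * t)) * y ^ m = Cube.cls c by
        rw [← Cube.clsMod_eq hN e, hNc, mul_pow, ← pow_mul]; congr 2; ring] at h₃
      obtain ⟨a, ha⟩ := Cube.exists_sect_of_hasSec h₃
      refine ⟨a, ha.ge ⟨?_, ?_⟩⟩
      · exact (Contract29.gen_iff_le_locus c₁ e₁ (σ l) (W l)).1 ((hσ l (W l)).2 le_rfl) hl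
      · show p ∉ (I.support : Set X.left)
        rw [hsupp]
        exact hp
  refine ⟨N, hN, hgg, ?_, fun E => ⟨fun htr => ?_, fun ⟨i, hi⟩ => ?_⟩⟩
  · let pr : pullback X.hom (Neron.genPt R) ⟶ X.left := pullback.fst X.hom (Neron.genPt R)
    have hpy : Cube.pull pr y = 1 := pull_eq_one_of_hasSec_le pr (Cube.hasSec_compl_support hI) fun z hz => by
      obtain ⟨i, a, ha⟩ := Set.mem_iUnion.1 (hsupp.le hz)
      have h1 : (X.hom (pr z)).asIdeal = ⊥ := (ArSurf29.range_fst_genPt X.hom).le ⟨z, rfl⟩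
      rw [← ha, show X.hom ((Γ i).ι a) = IsLocalRing.closedPoint R from
        ArSurf29.range_subset_fibre (Γ i) ⟨a, rfl⟩] at h1
      exact IsDiscreteValuationRing.not_a_field R h1
    haveI := Contract29.isIntegral_genericFibre hX
    haveI : Nonempty ↥(pullback X.hom (Neron.genPt R)) := inferInstance
    let C : Scheme.{u} := ((Neron.genericFibre R).obj X).left
    let pr' : C ⟶ X.left := pr
    haveI : IsProper (C ↘ Spec (CommRingCat.of (FractionRing R))) :=
      inferInstanceAs (IsProper (pullback.snd X.hom (Neron.genPt R)))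
    have hdim : topologicalKrullDim C = 1 := Contract29.dim_genericFibre hX (IsDiscreteValuationRing.not_isField R)
    haveI : IsIntegral C := Contract29.isIntegral_genericFibre hX
    haveI := Euler.isNoetherian_of_proper (X := C) (FractionRing R)
    have hprA : IsAffineHom pr := MorphismProperty.pullback_fst _ _ inferInstance
    haveI : IsAffineHom pr' := hprA
    have hAC := Ample.isAmple_pullback_of_isAffineHom pr' hH
    have hT := Ample.isInvertible_tensorPow hAC.1 (t * m)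
    have hAT : CohB1.IsAmple (CohB1.tensorPow ((Scheme.Modules.pullback pr').obj H) (t * m)) :=
      (Ample.isAmple_tensorPow_iff hAC.1 (Nat.mul_pos ht (Nat.mul_pos hK (Nat.succ_pos N₀)))).1 hAC
    have hpy' : Cube.pull pr' y = 1 := hpy
    obtain ⟨e⟩ := (Cube.clsMod_eq_iff (Ample.isInvertible_pullback pr' hN) hT).1 (by
      rw [Cube.clsMod_pullback pr' hN, hNc, map_pow, map_mul, map_pow, hpy', mul_one, ← pow_mul,
        Cube.clsMod_tensorPow hAC.1, Cube.clsMod_pullback pr' hH.1])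
    have hpos := (Euler.isAmple_iff_deg_pos (FractionRing R) hdim hAT.1).1 hAT
    show 0 < FGA.eulerCharLE (FractionRing R) C _ 1 - FGA.eulerCharLE (FractionRing R) C (Coh.structureModule C) 1
    rw [FGAInt26.eulerCharLE_congr (k := FractionRing R) e 1, FGAInt26.eulerCharLE_eq (FractionRing R) (d := 1) hdim.le,
      FGAInt26.eulerCharLE_eq (FractionRing R) (d := 1) hdim.le]
    simpa [Curv2.deg] using hpos
  · by_contra hne
    push Not at hne
    have h1 : ArSurf.inter R X N E = 0 := ArSurf29.inter_eq_zero_of_pull_eq_one E hN (by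
      rw [← Cube.clsMod_pullback E.ι hN]; exact (Cube.clsMod_eq_one_iff _).2 htr)
    rw [ArSurf29.inter_eq_icl E hN, hNc, ArSurf29.icl_pow, ArSurf29.icl_mul, ArSurf29.icl_pow,
      ← ArSurf29.inter_eq_icl E hH.1] at h1
    have h2 := inter_pos_of_ample hH E
    have h3 := hnn E hne
    have h4 : (0 : ℤ) < (t : ℤ) * ArSurf.inter R X H E := mul_pos (by exact_mod_cast ht) h2
    have h5 : (0 : ℤ) < (m : ℤ) := by exact_mod_cast Nat.mul_pos hK (Nat.succ_pos N₀)
    have h6 := mul_pos h5 (show (0 : ℤ) < (t : ℤ) * ArSurf.inter R X H E + ArSurf29.icl E y by linarith)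
    linarith
  · refine trivial_along_comp hX.1 (ArSurf29.isMaxComp_of_isArithSurface hX) hpic hN (fun i => ?_) E i hi
    rw [ArSurf29.inter_eq_icl (Γ i) hN, hNc, ArSurf29.icl_pow, ArSurf29.icl_mul, ArSurf29.icl_pow, hdeg]
    ring

end GrothLib.Artin29
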