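import Groth.Agent.Lib.Artin29.Coeff
import Groth.Agent.Lib.HorizCart29.Contract
import Groth.Agent.Lib.Contract29.AmpleCover
import Groth.Agent.Lib.Contract29.Twist
import Groth.Agent.Lib.Contract29.Bundle
import Groth.Agent.Lib.Contract29.Collapse
import Groth.Agent.Lib.ArSurf29.Form
import Groth.Agent.Lib.ArSurf29.Setup
import Groth.Agent.Lib.ArSurf29.Contracted
import Groth.Agent.Lib.SerreVanish.Ample
import Groth.Agent.Lib.FGAInt26.BaseChange

/-!
# Sections of degree zero modules along a negative definite configuration of vertical curves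
-/

set_option autoImplicit false
set_option linter.all false
set_option backward.isDefEq.respectTransparency false

universe u

open CategoryTheory CategoryTheory.Limits AlgebraicGeometry TopologicalSpace Opposite
open GrothLib.InvExt (mres IsGen)
open GrothLib.Cube (clsMod)

noncomputable section

namespace GrothLib.Artin29

variable {R : Type u} [CommRing R] [IsDomain R] [IsDiscreteValuationRing R]
  (X : Over (Spec (CommRingCat.of R)))

/-- Artin's hypothesis: degree zero modules on divisors supported on the configuration are trivial. -/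
def PicZero {r : ℕ} (Γ : Fin r → ArSurf.VertComp R X) : Prop :=
  ∀ (Z : Scheme.{u}) (z : Z ⟶ X.left) [IsClosedImmersion z], _root_.BlowUp.IsEffCartierIdeal z.ker →
    Nonempty Z → Set.range z.base ⊆ (⋃ i, Set.range (Γ i).ι.base) →
    ∀ N : Z.Modules, PicF.IsInvertible N →
      (∀ (i : Fin r) (g : (Γ i).curve.left ⟶ Z), g ≫ z = (Γ i).ι →
        ArSurf.curveDeg (IsLocalRing.ResidueField R) (Γ i).curve.left ((Scheme.Modules.pullback g).obj N) = 0) →
      Nonempty (N ≅ Coh.structureModule Z)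

variable {X}

theorem inter_pos_of_ample [IsProper X.hom] {H : X.left.Modules} (hH : CohB1.IsAmple H) (E : ArSurf.VertComp R X) :
    0 < ArSurf.inter R X H E := by
  haveI := ArSurf29.isProper_curve E
  haveI := Euler.isNoetherian_of_proper (X := E.curve.left) (IsLocalRing.ResidueField R)
  have hA := Ample.isAmple_pullback_of_isAffineHom E.ι hH
  rw [ArSurf29.inter_eq_deg E hH.1]
  exact (Euler.isAmple_iff_deg_pos (IsLocalRing.ResidueField R) E.dim_eq hA.1).1 hA

theorem curveDeg_pullback_eq_inter {Z : Scheme.{u}} (z : Z ⟶ X.left) [IsProper X.hom] (E : ArSurf.VertComp R X)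
    (g : E.curve.left ⟶ Z) (hg : g ≫ z = E.ι) {P : X.left.Modules} (hP : PicF.IsInvertible P) :
    ArSurf.curveDeg (IsLocalRing.ResidueField R) E.curve.left
      ((Scheme.Modules.pullback g).obj ((Scheme.Modules.pullback z).obj P)) = ArSurf.inter R X P E := by
  haveI := ArSurf29.isProper_curve E
  have h1 := Ample.isInvertible_pullback g (Ample.isInvertible_pullback z hP)
  obtain ⟨e⟩ := (Cube.clsMod_eq_iff h1 (Ample.isInvertible_pullback E.ι hP)).1 (by
    rw [Cube.clsMod_pullback g (Ample.isInvertible_pullback z hP), Cube.clsMod_pullback z hP, Cube.pull_comp, hg,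
      Cube.clsMod_pullback E.ι hP])
  unfold ArSurf.inter ArSurf.curveDeg
  rw [FGAInt26.eulerCharLE_congr (k := IsLocalRing.ResidueField R) e 1]

theorem trivial_along_comp [IsProper X.hom] {r : ℕ} {Γ : Fin r → ArSurf.VertComp R X} (hreg : Models.IsRegularScheme X.left)
    [IsLocallyNoetherian X.left] [Flat X.hom] (hmax : ∀ E : ArSurf.VertComp R X, ArSurf29.IsMaxComp E)
    (hpic : PicZero X Γ) {P : X.left.Modules} (hP : PicF.IsInvertible P)
    (h0 : ∀ i, ArSurf.inter R X P (Γ i) = 0) (E : ArSurf.VertComp R X) (i : Fin r)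
    (hE : Set.range E.ι.base = Set.range (Γ i).ι.base) :
    Nonempty ((Scheme.Modules.pullback E.ι).obj P ≅ Coh.structureModule E.curve.left) := by
  haveI := (Γ i).isIntegral
  obtain ⟨e⟩ := hpic (Γ i).curve.left (Γ i).ι (ArSurf29.isEffCartier_ker (hmax (Γ i)) hreg)
    ⟨genericPoint (Γ i).curve.left⟩ (Set.subset_iUnion (fun l => Set.range (Γ l).ι.base) i)
    _ (Ample.isInvertible_pullback (Γ i).ι hP) fun l g hg => by
      rw [curveDeg_pullback_eq_inter (Γ i).ι (Γ l) g hg hP, h0]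
  have hker : (Γ i).ι.ker ≤ E.ι.ker := by
    have h1 : closure {Models.genPtOf R X (Γ i)} = closure {Models.genPtOf R X E} := by
      rw [← ArSurf29.range_eq_closure, ← ArSurf29.range_eq_closure, hE]
    rw [ArSurf29.ker_eq, ArSurf29.ker_eq]
    exact le_of_eq (congrArg Scheme.IdealSheafData.vanishingIdeal (Closeds.ext h1))
  let g := IsClosedImmersion.lift (Γ i).ι E.ι hker
  refine (Cube.clsMod_eq_one_iff (Ample.isInvertible_pullback E.ι hP)).1 ?_
  have h1 := (Cube.clsMod_eq_one_iff (Ample.isInvertible_pullback (Γ i).ι hP)).2 ⟨e⟩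
  rw [Cube.clsMod_pullback (Γ i).ι hP] at h1
  rw [Cube.clsMod_pullback E.ι hP, ← IsClosedImmersion.lift_fac (Γ i).ι E.ι hker, ← Cube.pull_comp, h1, map_one]

/-- A divisor supported exactly on the configuration, of degrees `-t` times those of an ample module. -/
theorem exists_divisor (hX : ArSurf.IsArithSurface R X) [IsProper X.hom] [IsLocallyNoetherian X.left] [Flat X.hom]
    {r : ℕ} {Γ : Fin r → ArSurf.VertComp R X}
    (hΓ : Function.Injective fun i => Set.range ((Γ i).ι.base : (Γ i).curve.left → X.left))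
    (L : Fin r → X.left.Modules) (hL : ∀ j, ClSub.IsInverseOf (L j) (ClSub.idealMod (Γ j).ι.ker))
    (hneg : ∀ a : Fin r → ℤ, a ≠ 0 →
      (Finset.univ : Finset (Fin r × Fin r)).sum (fun p => a p.1 * a p.2 * ArSurf.inter R X (L p.2) (Γ p.1)) < 0)
    {H : X.left.Modules} (hH : CohB1.IsAmple H) :
    ∃ (t : ℕ) (I : X.left.IdealSheafData) (hI : _root_.BlowUp.IsEffCartierIdeal I), 0 < t ∧
      (I.support : Set X.left) = ⋃ i, Set.range (Γ i).ι.base ∧
      (∀ i, ArSurf29.icl (Γ i) (clsMod (IdealModSec.isInvertible_of_isEffCartier hI))⁻¹ =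
        -((t : ℤ) * ArSurf29.icl (Γ i) (clsMod hH.1))) ∧
      ∀ E : ArSurf.VertComp R X, (∀ i, Set.range E.ι.base ≠ Set.range (Γ i).ι.base) →
        0 ≤ ArSurf29.icl E (clsMod (IdealModSec.isInvertible_of_isEffCartier hI))⁻¹ := by
  classical
  have hmax := ArSurf29.isMaxComp_of_isArithSurface hX
  let A : Matrix (Fin r) (Fin r) ℤ := fun i j => ArSurf.inter R X (L j) (Γ i)
  have hcart : ∀ j, _root_.BlowUp.IsEffCartierIdeal (Γ j).ι.ker := fun j => ArSurf29.isEffCartier_ker (hmax (Γ j)) hX.1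
  have hne : ∀ (E : ArSurf.VertComp R X) j, Set.range E.ι.base ≠ Set.range (Γ j).ι.base →
      0 ≤ ArSurf.inter R X (L j) E := fun E j h =>
    ArSurf29.inter_nonneg E (hcart j) (ArSurf29.notMem_support_ker_of_ne (hmax E) h) (hL j)
  obtain ⟨t, a, ht, ha, hta⟩ := exists_pos_solution A (fun i j h => hne (Γ i) j fun e => h (hΓ e)) (fun v hv => by
    refine lt_of_eq_of_lt ?_ (hneg v hv)
    rw [Fintype.sum_prod_type]
    simp only [dotProduct, Matrix.mulVec, Finset.mul_sum, A]
    exact Finset.sum_congr rfl fun i _ => Finset.sum_congr rfl fun j _ => by ring)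
    (fun i => ArSurf29.icl (Γ i) (clsMod hH.1)) (fun i => by
      show 0 < ArSurf29.icl (Γ i) (clsMod hH.1)
      rw [← ArSurf29.inter_eq_icl (Γ i) hH.1]
      exact inter_pos_of_ample hH (Γ i))
  have hIj := fun j => IdealModSec.isInvertible_of_isEffCartier (hcart j)
  have hpow := fun j => ArSurf29.cls_idealMod_pow (hcart j) (a j)
  choose hpi hpc using hpow
  let I := ∏ j, (Γ j).ι.ker ^ a j
  have hI : _root_.BlowUp.IsEffCartierIdeal I := by
    refine Finset.prod_induction (M := X.left.IdealSheafData) _ (fun J => _root_.BlowUp.IsEffCartierIdeal J)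
      (fun J K hJ hK => GrothLib.BlowUp.isEffCartierIdeal_mul hJ hK) ?_ fun j _ => ?_
    · show _root_.BlowUp.IsEffCartierIdeal (1 : X.left.IdealSheafData)
      rw [Scheme.IdealSheafData.one_eq_top]
      exact GrothLib.BlowUp.isEffCartierIdeal_top
    · induction a j with
      | zero =>
        rw [pow_zero, Scheme.IdealSheafData.one_eq_top]
        exact GrothLib.BlowUp.isEffCartierIdeal_top
      | succ m ih =>
        rw [pow_succ]
        exact GrothLib.BlowUp.isEffCartierIdeal_mul ih (hcart j)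
  obtain ⟨_, hc⟩ := ArSurf29.cls_idealMod_prod Finset.univ (fun j => (Γ j).ι.ker ^ a j) hpi
  have hicl : ∀ E : ArSurf.VertComp R X, ArSurf29.icl E (clsMod (IdealModSec.isInvertible_of_isEffCartier hI))⁻¹ =
      ∑ j, ArSurf.inter R X (L j) E * (a j : ℤ) := fun E => by
    rw [show clsMod (IdealModSec.isInvertible_of_isEffCartier hI) = _ from hc, ArSurf29.icl_inv, ArSurf29.icl_prod,
      ← Finset.sum_neg_distrib]
    refine Finset.sum_congr rfl fun j _ => ?_
    have hLj := ArSurf29.isInvertible_of_isInverseOf (hcart j) (hL j)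
    rw [hpc, ArSurf29.icl_pow, ArSurf29.inter_eq_icl E hLj,
      Cube.clsMod_eq_inv_of_isInverseOf hLj (hIj j) (hL j), ArSurf29.icl_inv]
    ring
  refine ⟨t, I, hI, ht, ?_, fun i => by rw [hicl]; exact hta i, fun E hE => ?_⟩
  · ext p
    rw [SetLike.mem_coe, HorizCart29.mem_support_prod_iff, Set.mem_iUnion]
    have hs : ∀ j, p ∈ ((Γ j).ι.ker ^ a j).support ↔ p ∈ Set.range (Γ j).ι.base := fun j => by
      rw [← ArSurf29.support_ker (Γ j), SetLike.mem_coe]
      constructor
      · intro hp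
        by_contra hc
        refine (CartierDescent.stalkIdeal_eq_top_iff _ _).1 ?_ hp
        show DivPart.stalkHom p ((Γ j).ι.ker ^ a j) = ⊤
        rw [map_pow, show DivPart.stalkHom p (Γ j).ι.ker = ⊤ from (CartierDescent.stalkIdeal_eq_top_iff _ _).2 hc]
        exact Ideal.top_pow _ _
      · intro hp
        by_contra hc
        have h1 : DivPart.stalkHom p ((Γ j).ι.ker ^ a j) = ⊤ := (CartierDescent.stalkIdeal_eq_top_iff _ _).2 hc
        rw [map_pow] at h1
        exact (CartierDescent.stalkIdeal_eq_top_iff _ _).1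
          (top_le_iff.1 (h1 ▸ Ideal.pow_le_self (Nat.one_le_iff_ne_zero.1 (ha j)))) hp
    exact ⟨fun ⟨j, _, hj⟩ => ⟨j, (hs j).1 hj⟩, fun ⟨j, hj⟩ => ⟨j, Finset.mem_univ j, (hs j).2 hj⟩⟩
  · rw [hicl]
    exact Finset.sum_nonneg fun j _ => mul_nonneg (hne E j (hE j)) (Int.natCast_nonneg _)

/-- Degree zero modules, twisted enough, have a section generating along the configuration. -/
theorem exists_hasSec_nhd [IsProper X.hom] [IsLocallyNoetherian X.left] {r : ℕ} {Γ : Fin r → ArSurf.VertComp R X}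
    (hpic : PicZero X Γ) {H : X.left.Modules} (hH : CohB1.IsAmple H) {t : ℕ} (ht : 0 < t)
    {I : X.left.IdealSheafData} (hI : _root_.BlowUp.IsEffCartierIdeal I)
    (hsupp : (I.support : Set X.left) = ⋃ i, Set.range (Γ i).ι.base)
    (hdeg : ∀ i, ArSurf29.icl (Γ i) (clsMod (IdealModSec.isInvertible_of_isEffCartier hI))⁻¹ =
        -((t : ℤ) * ArSurf29.icl (Γ i) (clsMod hH.1)))
    {M : X.left.Modules} (hM : PicF.IsInvertible M) (hM0 : ∀ i, ArSurf.inter R X M (Γ i) = 0) :
    ∃ N₀, ∀ m, N₀ ≤ m → ∃ O : X.left.Opens, (⋃ i, Set.range (Γ i).ι.base) ⊆ (O : Set X.left) ∧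
      Cube.HasSec (clsMod hM *
        (clsMod hH.1 ^ t * (clsMod (IdealModSec.isInvertible_of_isEffCartier hI))⁻¹) ^ m) O := by
  classical
  letI : X.left.Over (Spec (CommRingCat.of R)) := ⟨X.hom⟩
  haveI : IsProper (X.left ↘ Spec (CommRingCat.of R)) := inferInstanceAs (IsProper X.hom)
  obtain ⟨n₀, hn₀⟩ := SerreVanish.exists_forall_subsingleton R hH (Euler.isCoh_of_isInvertible hM)
  refine ⟨n₀ + 1, fun m hm => ?_⟩
  obtain ⟨P, hP, hPc⟩ := Contract29.exists_mod (clsMod hM *
    (clsMod hH.1 ^ t * (clsMod (IdealModSec.isInvertible_of_isEffCartier hI))⁻¹) ^ m)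
  let j := (I ^ m).subschemeι
  have hIm : _root_.BlowUp.IsEffCartierIdeal (I ^ m) := Nagata6.isEffCartierIdeal_pow hI m
  have hj : _root_.BlowUp.IsEffCartierIdeal j.ker := by rw [Scheme.IdealSheafData.ker_subschemeι]; exact hIm
  obtain ⟨hIi, hIc⟩ := ArSurf29.cls_idealMod_pow hI m
  have hjc : clsMod (IdealModSec.isInvertible_of_isEffCartier hj) =
      clsMod (IdealModSec.isInvertible_of_isEffCartier hI) ^ m :=
    hIc ▸ (Cube.clsMod_eq_iff _ _).2 ⟨eqToIso (by rw [Scheme.IdealSheafData.ker_subschemeι])⟩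
  obtain ⟨P', hP', hP'c⟩ := Contract29.exists_mod (clsMod hP * clsMod (IdealModSec.isInvertible_of_isEffCartier hj))
  obtain ⟨f, θ, w, hS⟩ := Contract29.exists_seq_twist j hj hP hP' hP'c
  haveI : Subsingleton (Coh.HH X.left P' 1) := by
    have hT := Ample.isInvertible_tensorPow hH.1 (t * m)
    obtain ⟨e⟩ := (Cube.clsMod_eq_iff (Ample.isInvertible_tensorMod hM hT) hP').1 (by
      rw [Cube.clsMod_tensorMod hM hT, Cube.clsMod_tensorPow hH.1, hP'c, hjc, hPc, mul_pow, ← pow_mul, inv_pow,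
        mul_assoc, mul_assoc, inv_mul_cancel, mul_one])
    exact CMReg.subsingleton_of_iso e (hn₀ (t * m) ((Nat.le_mul_of_pos_left m ht).trans' (by omega)) 1 le_rfl)
  have hrange : Set.range j.base = ⋃ i, Set.range (Γ i).ι.base := by
    rw [(I ^ m).range_subschemeι, ← hsupp]
    ext p
    have hd : ∀ J : X.left.IdealSheafData, p ∈ J.support ↔ DivPart.stalkHom p J ≠ ⊤ := fun J =>
      ⟨fun hz htop => (CartierDescent.stalkIdeal_eq_top_iff J p).1 htop hz,
        fun hne => by_contra fun hz => hne ((CartierDescent.stalkIdeal_eq_top_iff J p).2 hz)⟩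
    rw [SetLike.mem_coe, SetLike.mem_coe, hd, hd, map_pow]
    refine not_congr ⟨fun h => top_le_iff.1 (h ▸ Ideal.pow_le_self (by omega)), fun h => by rw [h, Ideal.top_pow]⟩
  have hP0 : ∀ i, ArSurf.inter R X P (Γ i) = 0 := fun i => by
    rw [ArSurf29.inter_eq_icl (Γ i) hP, hPc, ArSurf29.icl_mul, ← ArSurf29.inter_eq_icl (Γ i) hM, hM0,
      ArSurf29.icl_pow, ArSurf29.icl_mul, ArSurf29.icl_pow, hdeg]
    ring
  rcases isEmpty_or_nonempty (I ^ m).subscheme with hZ | hZ
  · refine ⟨⊥, ?_, ?_⟩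
    · rw [← hrange]
      rintro _ ⟨z, rfl⟩
      exact (hZ.false z).elim
    · obtain ⟨c, ⟨e⟩⟩ := Ample.exists_cocycle hP
      refine ⟨c, 0, by rw [← hPc, Cube.clsMod_eq hP e], ?_⟩
      ext p
      obtain ⟨k, hk⟩ := c.exists_mem p
      rw [SetLike.mem_coe, c.mem_locus_iff (0 : c.sect 1 ⊤) hk, show ((0 : c.sect 1 ⊤).1 k) = 0 from rfl,
        Scheme.basicOpen_zero]
      rfl
  obtain ⟨e⟩ := hpic (I ^ m).subscheme j hj hZ hrange.le _ (Ample.isInvertible_pullback j hP) fun i g hg => by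
    rw [curveDeg_pullback_eq_inter j (Γ i) g hg hP, hP0]
  have hgen : IsGen ((Scheme.Modules.pullback j).obj P) (j ⁻¹ᵁ ⊤) (e.inv.app ⊤ (1 : Γ((I ^ m).subscheme, ⊤))) :=
    (InvExt.isGen_one ⊤).map e.inv fun W _ =>
      ConcreteCategory.bijective_of_isIso ((Scheme.Modules.toPresheaf _).map e.inv |>.app (op W))
  obtain ⟨x₀, hx₀⟩ := Contract29.surjective_of_subsingleton (A := R) hS (e.inv.app ⊤ (1 : Γ((I ^ m).subscheme, ⊤)))
  have hx₀' : IsGen ((Scheme.Modules.pullback j).obj P) (j ⁻¹ᵁ ⊤) (Contract29.down j (θ.app ⊤ x₀)) := by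
    rw [show Contract29.down j (θ.app ⊤ x₀) = e.inv.app ⊤ (1 : Γ((I ^ m).subscheme, ⊤)) from hx₀]; exact hgen
  obtain ⟨c, ⟨u⟩⟩ := Ample.exists_cocycle hP
  refine ⟨c.locus (show c.sect 1 ⊤ from u.hom.app ⊤ x₀), ?_, ⟨c, _, by rw [← hPc, Cube.clsMod_eq hP u], rfl⟩⟩
  rw [← hrange]
  rintro _ ⟨p, rfl⟩
  obtain ⟨V, hpV, hV⟩ := Contract29.exists_gen_nhd_of_image j hP θ x₀ hx₀' p
  exact (Contract29.gen_iff_le_locus c u x₀ V).1 hV hpV

end GrothLib.Artin29
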